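import Cfsg.Agent.Forms.Symplectic
import Cfsg.Agent.Forms4.SymplecticSimple
import Cfsg.Agent.Forms.SymplecticOrder
import Mathlib.Data.ZMod.Basic

/-!
Vectors of the symplectic space of degree six over two elements as numbers below 64, and the action
of transvections on them.
-/

set_option autoImplicit false

namespace CfsgLib.SpSixMult

open CfsgLib.Forms

/-- The field with two elements. -/
abbrev K : Type := ZMod 2

/-- The space. -/
abbrev V : Type := Fin 3 ⊕ Fin 3 → K

/-- The indicator of a truth value. -/
def ind (b : Bool) : K := if b then 1 else 0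

theorem ind_xor : ∀ a b : Bool, ind (a != b) = ind a + ind b := by decide

theorem ind_and : ∀ a b : Bool, ind (a && b) = ind a * ind b := by decide

theorem ind_injective : ∀ a b : Bool, ind a = ind b → a = b := by decide

/-- The vector of a number: the low bits are the first half of the coordinates. -/
def dec (c : ℕ) : V :=
  Sum.elim (fun i => ind (c.testBit i.val)) (fun i => ind (c.testBit (3 + i.val)))

theorem dec_zero : dec 0 = 0 := by
  funext i
  rcases i with i | i <;> simp [dec, ind]

theorem dec_xor (a b : ℕ) : dec (a ^^^ b) = dec a + dec b := by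
  funext i
  rcases i with i | i <;> simp [dec, Nat.testBit_xor, ind_xor]

theorem dec_injective {a b : ℕ} (ha : a < 64) (hb : b < 64) (h : dec a = dec b) : a = b := by
  refine Nat.eq_of_testBit_eq fun i => ?_
  by_cases h3 : i < 3
  · have := congrFun h (Sum.inl ⟨i, h3⟩)
    exact ind_injective _ _ this
  by_cases h6 : i < 6
  · have := congrFun h (Sum.inr ⟨i - 3, by omega⟩)
    simp only [dec, Sum.elim_inr, show 3 + (i - 3) = i by omega] at this
    exact ind_injective _ _ this
  · have hp : (64 : ℕ) ≤ 2 ^ i := by
      calc (64 : ℕ) = 2 ^ 6 := by norm_num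
        _ ≤ 2 ^ i := Nat.pow_le_pow_right (by norm_num) (by omega)
    rw [Nat.testBit_eq_false_of_lt (lt_of_lt_of_le ha hp),
      Nat.testBit_eq_false_of_lt (lt_of_lt_of_le hb hp)]

theorem dec_surjective (v : V) : ∃ c < 64, dec c = v := by
  have hb : Function.Bijective (fun c : Fin 64 => dec c.val) :=
    (Fintype.bijective_iff_injective_and_card _).2
      ⟨fun a b h => Fin.ext (dec_injective a.2 b.2 h), by simp⟩
  obtain ⟨c, hc⟩ := hb.2 v
  exact ⟨c.val, c.2, hc⟩

/-- The value of the form on two numbers. -/
def formBit (x y : ℕ) : Bool :=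
  (x.testBit 0 && y.testBit 3) != ((x.testBit 3 && y.testBit 0) !=
    ((x.testBit 1 && y.testBit 4) != ((x.testBit 4 && y.testBit 1) !=
      ((x.testBit 2 && y.testBit 5) != (x.testBit 5 && y.testBit 2)))))

theorem form_dec (x y : ℕ) : Cfsg.sympForm 3 K (dec x) (dec y) = ind (formBit x y) := by
  rw [sympForm_eq_sum, Fin.sum_univ_three]
  simp only [formBit, ind_xor, ind_and, dec, Sum.elim_inl, Sum.elim_inr, CharTwo.sub_eq_add,
    Fin.val_zero, Fin.val_one, Fin.val_two]
  ring

/-- The image of `x` under the transvection of centre `c`. -/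
def tv (c x : ℕ) : ℕ := cond (formBit x c) (x ^^^ c) x

/-- The transvection of centre `c`. -/
noncomputable def T (c : ℕ) : Matrix.symplecticGroup (Fin 3) K := spTransv (dec c) 1

theorem T_mulVec (c x : ℕ) : (T c).1.mulVec (dec x) = dec (tv c x) := by
  rw [show (T c).1 = Cfsg.sympTransvection 3 (dec c) 1 from rfl, sympTransvection_mulVec, one_mul,
    form_dec, tv]
  cases formBit x c
  · simp [ind]
  · simp [ind, dec_xor]

/-- The image of `x` under a product of transvections. -/
def tvs (cs : List ℕ) (x : ℕ) : ℕ := cs.foldr tv x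

/-- A product of transvections. -/
noncomputable def Ts (cs : List ℕ) : Matrix.symplecticGroup (Fin 3) K := (cs.map T).prod

theorem Ts_mulVec : ∀ (cs : List ℕ) (x : ℕ), (Ts cs).1.mulVec (dec x) = dec (tvs cs x)
  | [], x => by simp [Ts, tvs]
  | c :: cs, x => by
    rw [Ts, List.map_cons, List.prod_cons, Submonoid.coe_mul, ← Matrix.mulVec_mulVec]
    show (T c).1.mulVec ((Ts cs).1.mulVec (dec x)) = _
    rw [Ts_mulVec cs x, T_mulVec]
    rfl

theorem ext_dec {A B : Matrix.symplecticGroup (Fin 3) K}
    (h : ∀ c, 1 ≤ c → c < 64 → A.1.mulVec (dec c) = B.1.mulVec (dec c)) : A = B := by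
  refine sp_ext fun v => ?_
  obtain ⟨c, hc, rfl⟩ := dec_surjective v
  rcases Nat.eq_zero_or_pos c with rfl | h0
  · rw [dec_zero, Matrix.mulVec_zero, Matrix.mulVec_zero]
  · exact h c h0 hc

theorem card_sp : Nat.card (Matrix.symplecticGroup (Fin 3) K) = 1451520 := by
  rw [card_symplecticGroup, ZMod.card]
  decide

end CfsgLib.SpSixMult
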