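import Cfsg.Agent.SpSixMult.Count
import Cfsg.Agent.CoverTab.Transfer
import Cfsg.Agent.Forms.PSpTransport
import Cfsg.Agent.Schur.PcPerm

/-!
The Schur multiplier of the symplectic group of degree six over two elements has order two.
-/

set_option autoImplicit false
set_option linter.style.haveILetI false
set_option maxRecDepth 100000

namespace CfsgLib.SpSixMult

open CfsgLib.CoverTab CfsgLib.Forms
open CfsgLib.Schur.Pc (ev tailSubgroup)
open scoped commutatorElement

theorem two_part {Δ : Type} [Group Δ] [Finite Δ] (σ : Δ →* E) (hσ : Cfsg.IsStemExtension σ)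
    (hexp : ∀ x ∈ σ.ker, x ^ 2 = 1) : σ.ker = ⊥ := by
  have h := okTwo_true
  simp only [okTwo, Bool.and_eq_true, List.all_eq_true, List.mem_range] at h
  obtain ⟨⟨-, hlen⟩, hfus⟩ := h
  refine Schur.Two.Cert.ker_eq_bot cert2 σ hσ hexp cert2_eqs cert2_lin y2 ?_ ?_ ?_ ?_
  · intro a b hab hb
    have hq : ([b, a], cert2.rule b a) ∈ cert2.rules := by
      simp only [Schur.Two.Cert.rules, List.mem_flatMap, List.mem_map, List.mem_range]
      exact ⟨b, hb, a, Nat.lt_succ_of_le hab, rfl⟩
    have := rules2 _ hq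
    simpa [Schur.Pc.ev] using this
  · intro f hf
    obtain ⟨i, hi, rfl⟩ := List.getElem_of_mem hf
    refine ⟨el (conjGens.getD i 0), fun s hs => ?_⟩
    have hi3 : i < 3 := Nat.eq_of_beq_eq_true hlen ▸ hi
    have e := Sys.same_grp ok (hfus i hi3 s hs)
    rw [List.getD_eq_getElem _ _ hi, Schur.Pc.ev_cons, Schur.Pc.ev_append, Schur.Pc.ev_cons,
      Schur.Pc.ev_nil, mul_one, ← ev_y2, ← ev_y2] at e
    rw [mul_inv_eq_iff_eq_mul]
    exact e
  · rw [show cert2.n = 10 from rfl, card_all.2.2]
    norm_num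
  · rw [show cert2.n = 10 from rfl]
    intro hd
    have h := Subgroup.index_mul_card (tailSubgroup y2 10 0)
    rw [card_all.2.2, card_all.1] at h
    omega

theorem no_stem : Cfsg.HasCyclicSchurMultiplier E 1 := by
  refine Schur.hasCyclicSchurMultiplier_one _ fun p hp hd Γ _ _ σ hσ hexp => ?_
  have hcard : Nat.card E = 2903040 := card_all.1
  rw [hcard] at hd
  have hmem : p ∈ [2, 2, 2, 2, 2, 2, 2, 2, 2, 2, 3, 3, 3, 3, 5, 7] :=
    Schur.Pc.mem_of_prime_dvd_prod hp (by decide) hd
  simp only [List.mem_cons, List.not_mem_nil, or_false] at hmem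
  obtain rfl | rfl | rfl | rfl : p = 2 ∨ p = 3 ∨ p = 5 ∨ p = 7 := by tauto
  · exact two_part σ hσ hexp
  · exact Sys.ker_eq_bot_of_cert ok cert3 xi3 gs3 mod3 base3 cert3_ok hp
      (N := 35840) hcard (by decide) σ hσ hexp
  · exact Sys.ker_eq_bot_of_cyc ok hp cyc5 cyc5_ok (N := 580608) hcard (by decide) σ hσ hexp
  · exact Sys.ker_eq_bot_of_cyc ok hp cyc7 cyc7_ok (N := 414720) hcard (by decide) σ hσ hexp

theorem z_mem_commutator : z ∈ commutator E := by
  have h := Sys.same_grp ok comm_ok
  simp only [Schur.Pc.ev_cons, Schur.Pc.ev_nil, mul_one] at h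
  have e : z = ⁅el commPair.1, el commPair.2⁆ := by
    show z = _
    rw [commutatorElement_def, h]
    group
  rw [e, commutator_def]
  exact Subgroup.commutator_mem_commutator (Subgroup.mem_top _) (Subgroup.mem_top _)

/-- The multiplier of `PSp₆(2)`, over the prime field. -/
theorem multiplier_two : Cfsg.HasCyclicSchurMultiplier (Cfsg.PSp 3 K) 2 := by
  have hperf : commutator (Matrix.symplecticGroup (Fin 3) K) = ⊤ :=
    Forms4.commutator_Sp_eq_top (Or.inl le_rfl)
  have hcen : Subgroup.center (Matrix.symplecticGroup (Fin 3) K) = ⊥ :=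
    Subgroup.eq_bot_of_card_eq _ (by rw [Forms4.card_center_Sp (by norm_num), ZMod.card]; rfl)
  let q : E →* Cfsg.PSp 3 K :=
    (QuotientGroup.mk' (Subgroup.center (Matrix.symplecticGroup (Fin 3) K))).comp tau
  have hq : Function.Surjective q := (QuotientGroup.mk'_surjective _).comp tau_surjective
  have hker : q.ker = Subgroup.zpowers (sys.x ok sys.n) := by
    rw [← MonoidHom.comap_ker, QuotientGroup.ker_mk', hcen, MonoidHom.comap_bot, card_all.2.1]
    rfl
  haveI : Finite (Cfsg.PSp 3 K) := Finite.of_surjective q hq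
  have hG : Group.IsPerfect (Cfsg.PSp 3 K) := Group.isPerfect_def.mpr (by
    have hs := QuotientGroup.mk'_surjective (Subgroup.center (Matrix.symplecticGroup (Fin 3) K))
    rw [commutator_def, ← Subgroup.map_top_of_surjective _ hs, ← Subgroup.map_commutator,
      ← commutator_def, hperf])
  exact Sys.hasCyclicSchurMultiplier_quot ok (by decide) hG q hq hker z_mem_commutator no_stem

universe u

/-- The multiplier of `PSp₆(2)`. -/
theorem multiplier_psp {F : Type u} [Field F] [Fintype F] (hF : Fintype.card F = 2) :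
    Cfsg.HasCyclicSchurMultiplier (Cfsg.PSp 3 F) 2 := by
  obtain ⟨e⟩ := nonempty_psp_equiv (ZMod.ringEquivOfPrime F Nat.prime_two hF) 3
  exact hasSchurMultiplier_transfer e multiplier_two

end CfsgLib.SpSixMult
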