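import Cfsg.Agent.SpSixMult.Cover

/-!
The projection of the double cover onto the symplectic group and its kernel.
-/

set_option autoImplicit false
set_option linter.style.haveILetI false
set_option maxRecDepth 100000

namespace CfsgLib.SpSixMult

open CfsgLib.CoverTab CfsgLib.Forms
open CfsgLib.Schur.Pc (ev tailSubgroup)

/-- The subgroup of a list of generators. -/
noncomputable def gp (A : List ℕ) : Subgroup E := Subgroup.closure {g | ∃ a ∈ A, el a = g}

theorem card_gp_le {A B : List ℕ} {reps : List (List ℕ)} {steps : List (List (ℕ × List ℕ))}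
    (h : okStep A B reps steps = true) : Nat.card (gp A) ≤ reps.length * Nat.card (gp B) := by
  simp only [okStep, Bool.and_eq_true, List.all_eq_true, List.mem_range, beq_iff_eq] at h
  obtain ⟨⟨h0, hlen⟩, htab⟩ := h
  let f : Fin reps.length × gp B → E := fun q => ev el (reps.getD q.1 []) * q.2
  have hone : (1 : E) ∈ Set.range f := ⟨(⟨0, Nat.le_of_ble_eq_true hlen⟩, 1), by
    show ev el (reps.getD 0 []) * ((1 : gp B) : E) = 1
    have hl : (0 : ℕ) < reps.length := Nat.le_of_ble_eq_true hlen
    rw [List.getD_eq_getElem _ _ hl] at h0 ⊢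
    rw [h0, Schur.Pc.ev_nil]; exact mul_one _⟩
  have hstep : ∀ g ∈ gp A, ∀ x ∈ Set.range f, g * x ∈ Set.range f := by
    intro g hg
    induction hg using Subgroup.closure_induction with
    | mem y hy =>
      obtain ⟨a, ha, rfl⟩ := hy
      obtain ⟨j, hj, rfl⟩ := List.getElem_of_mem ha
      rintro _ ⟨⟨i, b⟩, rfl⟩
      have ht := htab j hj i i.2
      rcases hq : (steps.getD j [])[(i : ℕ)]? with _ | q
      · rw [hq] at ht; exact absurd ht Bool.false_ne_true
      · rw [hq, List.getD_eq_getElem _ _ hj] at ht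
        simp only [Bool.and_eq_true, List.all_eq_true, decide_eq_true_eq] at ht
        obtain ⟨⟨hi, hb⟩, hs⟩ := ht
        have hbm : ev el q.2 ∈ gp B :=
          Schur.Pc.ev_mem _ fun u hu => Subgroup.subset_closure ⟨u, hb u hu, rfl⟩
        refine ⟨(⟨q.1, Nat.le_of_ble_eq_true hi⟩, ⟨_, mul_mem hbm b.2⟩), ?_⟩
        show ev el (reps.getD q.1 []) * (ev el q.2 * b) = el A[j] * f (i, b)
        have e := Sys.same_grp ok hs
        rw [Schur.Pc.ev_cons, Schur.Pc.ev_append] at e
        rw [← mul_assoc, ← e, mul_assoc]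
    | one => intro x hx; rwa [one_mul]
    | mul y y' _ _ hy hy' => intro x hx; rw [mul_assoc]; exact hy _ (hy' _ hx)
    | inv y _ hy =>
      intro x hx
      let φ : Set.range f → Set.range f := fun w => ⟨y * w, hy _ w.2⟩
      have hi : Function.Injective φ := fun a b e =>
        Subtype.ext (mul_left_cancel (congrArg Subtype.val e))
      obtain ⟨w, hw⟩ := Finite.surjective_of_injective hi ⟨x, hx⟩
      have he : y * w = x := congrArg Subtype.val hw
      rw [← he, inv_mul_cancel_left]
      exact w.2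
  have hsub : (gp A : Set E) ⊆ Set.range f := fun g hg => by
    have := hstep g hg 1 hone
    rwa [mul_one] at this
  calc Nat.card (gp A) ≤ Nat.card (Set.range f) := Nat.card_mono (Set.toFinite _) hsub
    _ ≤ Nat.card (Fin reps.length × gp B) := Finite.card_range_le f
    _ = _ := by rw [Nat.card_prod, Nat.card_fin]

/-- The generators of the Sylow subgroup. -/
noncomputable def y2 (i : ℕ) : E := el (xi2.getD i 12)

theorem ev_y2 (u : List ℕ) : ev y2 u = ev el (w2 u) := by
  simp only [Schur.Pc.ev, w2, List.map_map]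
  rfl

theorem rules2 : ∀ q ∈ cert2.rules, ev y2 q.1 = ev y2 q.2 := by
  intro q hq
  have h := okTwo_true
  simp only [okTwo, Bool.and_eq_true, List.all_eq_true] at h
  rw [ev_y2, ev_y2]
  exact Sys.same_grp ok (h.1.1 q hq)

theorem gp_lev3_le : gp (lev 3) ≤ tailSubgroup y2 10 0 := by
  rw [gp, Subgroup.closure_le]
  rintro _ ⟨a, ha, rfl⟩
  have key : ∀ a ∈ lev 3, ∃ i < 10, xi2.getD i 12 = a := by decide
  obtain ⟨i, hi, rfl⟩ := key a ha
  exact Schur.Pc.gen_mem_tailSubgroup y2 (Nat.zero_le i) hi

theorem gp_lev0 : gp (lev 0) = ⊤ := by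
  rw [← Sys.closure_x ok, gp]
  congr 1
  ext g
  simp only [Set.mem_setOf_eq, lev, List.getD_cons_zero, List.mem_range]
  exact ⟨fun ⟨a, ha, e⟩ => ⟨a, Nat.le_of_lt_succ ha, e⟩,
    fun ⟨a, ha, e⟩ => ⟨a, Nat.lt_succ_of_le ha, e⟩⟩

theorem card_le : Nat.card E ≤ 2835 * Nat.card (tailSubgroup y2 10 0) ∧
    Nat.card (tailSubgroup y2 10 0) ≤ 1024 := by
  refine ⟨?_, ?_⟩
  · have h0 := card_gp_le step0
    have h1 := card_gp_le step1
    have h2 := card_gp_le step2
    have h3 := Subgroup.card_le_of_le gp_lev3_le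
    rw [gp_lev0, Subgroup.card_top, show reps0.length = 63 from rfl] at h0
    rw [show reps1.length = 15 from rfl] at h1
    rw [show reps2.length = 3 from rfl] at h2
    omega
  · exact Schur.Pc.card_tailSubgroup_le y2 cert2_shaped rules2 10 0 rfl

/-- The natural image. -/
noncomputable def tau : E →* Matrix.symplecticGroup (Fin 3) K where
  toFun g := (exists_R g).choose
  map_one' := R_unique (exists_R 1).choose_spec R_one
  map_mul' g h := R_unique (exists_R (g * h)).choose_spec
    (R_mul (exists_R g).choose_spec (exists_R h).choose_spec)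

theorem tau_eq {g : E} {A : Matrix.symplecticGroup (Fin 3) K} (h : R g A) : tau g = A :=
  R_unique (exists_R g).choose_spec h

theorem tau_z : tau z = 1 := by
  refine (tau_eq (R_gen 12 (by decide))).trans ?_
  rw [show natWords.getD 12 [] = [] from rfl]
  rfl

theorem tau_surjective : Function.Surjective tau := by
  rw [← MonoidHom.range_eq_top, eq_top_iff, ← transvGroup_eq_top, transvGroup,
    Subgroup.closure_le]
  rintro A ⟨w, -, c, rfl⟩
  obtain ⟨d, hd, rfl⟩ := dec_surjective w
  have hone : ∀ u : V, ∀ e : K, (u = 0 ∨ e = 0) → spTransv u e = 1 := fun u e h =>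
    sp_ext fun x => by
      rw [show (spTransv u e).1 = Cfsg.sympTransvection 3 u e from rfl, sympTransvection_mulVec,
        OneMemClass.coe_one, Matrix.one_mulVec]
      rcases h with rfl | rfl <;> simp
  rcases (show c = 0 ∨ c = 1 from (by decide : ∀ c : K, c = 0 ∨ c = 1) c) with rfl | rfl
  · rw [hone _ _ (Or.inr rfl)]; exact one_mem _
  rcases Nat.eq_zero_or_pos d with rfl | h0
  · rw [hone _ _ (Or.inl dec_zero)]; exact one_mem _
  · exact ⟨el (tn d), tau_eq (R_transv d h0 hd)⟩

theorem card_all : Nat.card E = 2903040 ∧ tau.ker = Subgroup.zpowers z ∧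
    Nat.card (tailSubgroup y2 10 0) = 1024 := by
  have h2 : Nat.card (Subgroup.zpowers z) = 2 := by rw [Nat.card_zpowers, orderOf_z]
  have hz : Subgroup.zpowers z ≤ tau.ker := Subgroup.zpowers_le.2 tau_z
  have hle := Subgroup.card_le_of_le hz
  have hm := Subgroup.card_mul_index tau.ker
  rw [Subgroup.index_ker, MonoidHom.range_eq_top.2 tau_surjective, Subgroup.card_top, card_sp] at hm
  obtain ⟨hb, hu⟩ := card_le
  have key : ∀ N k U : ℕ, k * 1451520 = N → N ≤ 2835 * U → U ≤ 1024 → 2 ≤ k →
      N = 2903040 ∧ k = 2 ∧ U = 1024 := by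
    intro N k U a b c d
    omega
  rw [h2] at hle
  obtain ⟨hN, hk, hU⟩ := key _ _ _ hm hb hu hle
  exact ⟨hN, (Subgroup.eq_of_le_of_card_ge hz (le_of_eq (hk.trans h2.symm))).symm, hU⟩

end CfsgLib.SpSixMult
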