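import Cfsg.Agent.SpSixMult.Table

/-!
The double cover maps onto the symplectic group, and it is small.
-/

set_option autoImplicit false
set_option linter.style.haveILetI false
set_option maxRecDepth 100000

namespace CfsgLib.SpSixMult

open CfsgLib.CoverTab
open CfsgLib.Schur.Pc (ev tailSubgroup)

/-- The cover. -/
abbrev E : Type := sys.grp

/-- The elements of the tables. -/
noncomputable abbrev el (a : ℕ) : E := sys.x ok a

/-- The sign. -/
noncomputable abbrev z : E := el 12

theorem z_central : z ∈ Subgroup.center E := Sys.shift_central ok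

theorem orderOf_z : orderOf z = 2 := Sys.orderOf_shift ok (by decide)

theorem upto_sound {u v : List ℕ} (h : upto u v = true) :
    ∃ k : ℕ, ev el u = z ^ k * ev el v := by
  simp only [upto, Bool.or_eq_true] at h
  rcases h with h | h
  · exact ⟨0, by rw [pow_zero, one_mul]; exact Sys.same_grp ok h⟩
  · refine ⟨1, ?_⟩
    rw [pow_one]
    have e := Sys.same_grp ok h
    rw [Schur.Pc.ev_cons] at e
    exact e

/-- `g` moves the lifts of the transvections as `A` does. -/
def R (g : E) (A : Matrix.symplecticGroup (Fin 3) K) : Prop :=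
  ∀ c, 1 ≤ c → c < 64 → ∃ c' k : ℕ, 1 ≤ c' ∧ c' < 64 ∧ A.1.mulVec (dec c) = dec c' ∧
    g * el (tn c) = z ^ k * (el (tn c') * g)

theorem R_one : R 1 1 := fun c h1 h2 =>
  ⟨c, 0, h1, h2, Matrix.one_mulVec _, by simp⟩

theorem R_mul {g h : E} {A B : Matrix.symplecticGroup (Fin 3) K} (hA : R g A) (hB : R h B) :
    R (g * h) (A * B) := by
  intro c h1 h2
  obtain ⟨c', k, h1', h2', eB, e⟩ := hB c h1 h2
  obtain ⟨c'', l, h1'', h2'', eA, e'⟩ := hA c' h1' h2'
  refine ⟨c'', k + l, h1'', h2'', by rw [Submonoid.coe_mul, ← Matrix.mulVec_mulVec, eB, eA], ?_⟩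
  have hc : g * z ^ k = z ^ k * g :=
    Subgroup.mem_center_iff.1 (Subgroup.pow_mem _ z_central k) g
  calc g * h * el (tn c) = g * (z ^ k * (el (tn c') * h)) := by rw [mul_assoc, e]
    _ = g * z ^ k * (el (tn c') * h) := by rw [mul_assoc]
    _ = z ^ k * (g * el (tn c')) * h := by rw [hc]; simp only [mul_assoc]
    _ = z ^ (k + l) * (el (tn c'') * (g * h)) := by rw [e', pow_add]; simp only [mul_assoc]

theorem R_of_okConj {g : ℕ} {cs : List ℕ}
    (h : ∀ c < 63, okConj g cs (c + 1) = true) : R (el g) (Ts cs) := by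
  intro c h1 h2
  have hc := h (c - 1) (by omega)
  rw [show c - 1 + 1 = c by omega] at hc
  simp only [okConj, Bool.and_eq_true] at hc
  obtain ⟨⟨hpos, hlt⟩, hu⟩ := hc
  obtain ⟨k, e⟩ := upto_sound hu
  rw [Schur.Pc.ev_cons, Schur.Pc.ev_cons, Schur.Pc.ev_cons, Schur.Pc.ev_cons, Schur.Pc.ev_nil,
    mul_one, mul_one] at e
  exact ⟨tvs cs c, k, Nat.le_of_ble_eq_true hpos, Nat.le_of_ble_eq_true hlt, Ts_mulVec cs c, e⟩

theorem R_gen (a : ℕ) (ha : a < 13) : R (el a) (Ts (natWords.getD a [])) := by
  have h := okGens_true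
  simp only [okGens, List.all_eq_true, List.mem_range] at h
  exact R_of_okConj fun c hc => h a ha c hc

theorem R_transv (d : ℕ) (h1 : 1 ≤ d) (h2 : d < 64) : R (el (tn d)) (T d) := by
  have h := okTransv_true (d - 1) (by omega)
  rw [okTransv, show d - 1 + 1 = d by omega] at h
  simp only [List.all_eq_true, List.mem_range] at h
  have := R_of_okConj (cs := [d]) fun c hc => h c hc
  simpa [Ts] using this

theorem exists_R (g : E) : ∃ A, R g A := by
  have hg : g ∈ (Subgroup.closure {g : E | ∃ a, a ≤ sys.n ∧ sys.x ok a = g}).toSubmonoid := by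
    rw [Sys.closure_x ok]; trivial
  rw [Subgroup.closure_toSubmonoid_of_finite] at hg
  induction hg using Submonoid.closure_induction with
  | mem x hx =>
    obtain ⟨a, ha, rfl⟩ := hx
    exact ⟨_, R_gen a (Nat.lt_succ_of_le ha)⟩
  | one => exact ⟨1, R_one⟩
  | mul a b _ _ ha hb =>
    obtain ⟨A, hA⟩ := ha
    obtain ⟨B, hB⟩ := hb
    exact ⟨A * B, R_mul hA hB⟩

theorem app_shift {x : ℕ} (hx : x < 240) : sys.app (sys.tab 12) x / 2 = x / 2 := by
  have h := ok
  simp only [Sys.OK, Bool.and_eq_true] at h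
  have h1 := h.1.1.2
  simp only [Sys.shiftOK, below_iff] at h1
  have h2 : sys.app (sys.tab 12) x = 2 * (x / 2) + (x + 1) % 2 :=
    Nat.eq_of_beq_eq_true (h1 x hx)
  omega

theorem el_sign (p : Fin sys.N) : ((sys.el 12 p : Fin sys.N) : ℕ) = sys.app (sys.tab 12) p :=
  Sys.el_apply ok (Sys.n_lt ok) p

theorem lift_injective {c c' : ℕ} (h1 : 1 ≤ c) (h2 : c < 64) (h1' : 1 ≤ c') (h2' : c' < 64)
    (k : ℕ) (e : el (tn c) = z ^ k * el (tn c')) : c = c' := by
  have h := okSep_true
  simp only [okSep, Bool.and_eq_true, List.all_eq_true, List.mem_range] at h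
  obtain ⟨⟨hl, hb⟩, hn⟩ := h
  have hlc : tn c < sys.T.length := by
    have := hl (c - 1) (by omega)
    rw [show c - 1 + 1 = c by omega] at this
    exact Nat.le_of_ble_eq_true this
  have hlc' : tn c' < sys.T.length := by
    have := hl (c' - 1) (by omega)
    rw [show c' - 1 + 1 = c' by omega] at this
    exact Nat.le_of_ble_eq_true this
  have key : ∀ b < 240, sys.app (sys.tab (tn c)) b / 2 = sys.app (sys.tab (tn c')) b / 2 := by
    intro b hb240
    have hz : z ^ k = 1 ∨ z ^ k = z := by
      have e2 := pow_mod_orderOf z k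
      rw [orderOf_z] at e2
      rcases Nat.mod_two_eq_zero_or_one k with hk | hk <;> rw [hk] at e2
      · exact Or.inl (by rw [← e2, pow_zero])
      · exact Or.inr (by rw [← e2, pow_one])
    rw [← Sys.el_apply ok hlc ⟨b, hb240⟩, ← Sys.el_apply ok hlc' ⟨b, hb240⟩]
    have e' : sys.el (tn c) = ((z ^ k * el (tn c') : E) : Equiv.Perm (Fin sys.N)) :=
      congrArg Subtype.val e
    rcases hz with hz | hz <;> rw [hz] at e'
    · rw [one_mul] at e'
      rw [e']
      rfl
    · rw [e', Subgroup.coe_mul, Equiv.Perm.mul_apply]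
      rw [show ((z : E) : Equiv.Perm (Fin sys.N)) = sys.el 12 from rfl, el_sign]
      exact app_shift (Fin.isLt _)
  have hk : sepKey c = sepKey c' := by
    have aux : ∀ L : List ℕ, (∀ b ∈ L, Nat.blt b 240 = true) → ∀ acc,
        L.foldl (fun acc b => acc * 120 + sys.app (sys.tab (tn c)) b / 2) acc =
          L.foldl (fun acc b => acc * 120 + sys.app (sys.tab (tn c')) b / 2) acc := by
      intro L
      induction L with
      | nil => intro _ acc; rfl
      | cons b L ih =>
        intro hL acc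
        rw [List.foldl_cons, List.foldl_cons, key b (Nat.le_of_ble_eq_true (hL b List.mem_cons_self)),
          ih fun x hx => hL x (List.mem_cons_of_mem _ hx)]
    exact aux sepPts hb 0
  have hnd := (nodupMask_sound _ 0 hn).1
  have := List.inj_on_of_nodup_map hnd (x := c - 1) (List.mem_range.2 (by omega)) (y := c' - 1)
    (List.mem_range.2 (by omega)) (by
      simp only [show c - 1 + 1 = c by omega, show c' - 1 + 1 = c' by omega, hk])
  omega

theorem R_unique {g : E} {A B : Matrix.symplecticGroup (Fin 3) K} (hA : R g A) (hB : R g B) :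
    A = B := by
  refine ext_dec fun c h1 h2 => ?_
  obtain ⟨a, k, a1, a2, ea, e⟩ := hA c h1 h2
  obtain ⟨b, l, b1, b2, eb, e'⟩ := hB c h1 h2
  rw [ea, eb]
  congr 1
  refine lift_injective a1 a2 b1 b2 (k + l) ?_
  have h : z ^ k * el (tn a) = z ^ l * el (tn b) := by
    have := e.symm.trans e'
    rwa [← mul_assoc, ← mul_assoc, mul_left_inj] at this
  have h3 : z ^ (k + k) = 1 := by
    rw [← two_mul, pow_mul, ← orderOf_z, pow_orderOf_eq_one, one_pow]
  rw [pow_add, mul_assoc, ← h, ← mul_assoc, ← pow_add, h3, one_mul]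

end CfsgLib.SpSixMult
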