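import Cfsg.Agent.CoverTab.Mult
import Cfsg.Agent.SpSixMult.Natural
import Cfsg.Agent.SpSixMult.Data

/-!
The checks for the tables of the double cover.
-/

set_option autoImplicit false
set_option Elab.async false

namespace CfsgLib.SpSixMult

open CfsgLib.CoverTab

noncomputable section

/-- The double cover. -/
def sys : Sys := ⟨2, 120, 8, 12, tables, invTables, defWords⟩

/-- Two words agree up to the sign. -/
noncomputable def upto (u v : List ℕ) : Bool := sys.same u v || sys.same u (12 :: v)

/-- The number of the lift of a transvection. -/
def tn (c : ℕ) : ℕ := tvNum.getD c 12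

/-- A word moves the lifts of the transvections as the given product of transvections does. -/
noncomputable def okConj (g : ℕ) (cs : List ℕ) (c : ℕ) : Bool :=
  Nat.blt 0 (tvs cs c) && Nat.blt (tvs cs c) 64 && upto [g, tn c] [tn (tvs cs c), g]

/-- The generators act as their natural images. -/
noncomputable def okGens : Bool :=
  (List.range 13).all fun a => (List.range 63).all fun c => okConj a (natWords.getD a []) (c + 1)

/-- The lifts act as transvections. -/
noncomputable def okTransv (d : ℕ) : Bool := (List.range 63).all fun c => okConj (tn (d + 1)) [d + 1] (c + 1)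

/-- The pair of opposite points in which an image lies. -/
def sepKey (c : ℕ) : ℕ :=
  sepPts.foldl (fun acc b => acc * 120 + sys.app (sys.tab (tn c)) b / 2) 0

/-- The lifts are distinct up to sign. -/
def okSep : Bool :=
  ((List.range 63).all fun c => Nat.blt (tn (c + 1)) sys.T.length) &&
    sepPts.all (fun b => Nat.blt b 240) &&
      nodupMask ((List.range 63).map fun c => sepKey (c + 1)) 0

/-- A step of the chain. -/
noncomputable def okStep (A B : List ℕ) (reps : List (List ℕ)) (steps : List (List (ℕ × List ℕ))) : Bool :=
  (reps.getD 0 [0] == []) && Nat.blt 0 reps.length &&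
    (List.range A.length).all fun j => (List.range reps.length).all fun i =>
      match (steps.getD j [])[i]? with
      | none => false
      | some q => Nat.blt q.1 reps.length && q.2.all (fun b => decide (b ∈ B)) &&
          sys.same (A.getD j 0 :: reps.getD i []) (reps.getD q.1 [] ++ q.2)

/-- The generators of the chain. -/
def lev (k : ℕ) : List ℕ :=
  [List.range 13, [0, 1, 2, 3, 4, 5, 6, 7, 8, 10, 11, 12], [0, 1, 2, 3, 4, 5, 6, 7, 8, 11, 12],
    [0, 1, 2, 3, 4, 5, 6, 7, 8, 12]].getD k []

/-- A word in the Sylow subgroup, as a word in the tables. -/
def w2 (u : List ℕ) : List ℕ := u.map fun a => xi2.getD a 12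

/-- The Sylow subgroup satisfies its rules, and the fusion holds. -/
noncomputable def okTwo : Bool :=
  (cert2.rules.all fun q => sys.same (w2 q.1) (w2 q.2)) &&
    Nat.beq cert2.fus.length 3 &&
      (List.range 3).all fun f => (List.range 16).all fun s =>
        sys.same (conjGens.getD f 0 :: w2 ((cert2.fus.getD f ([], [])).1.getD s []))
          (w2 ((cert2.fus.getD f ([], [])).2.getD s []) ++ [conjGens.getD f 0])

theorem ok : sys.OK = true := by decide +kernel

theorem okGens_true : okGens = true := by decide +kernel

theorem okTransv_block0 : (List.range' (0 * 21) 21).all okTransv = true := by decide +kernel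

theorem okTransv_block1 : (List.range' (1 * 21) 21).all okTransv = true := by decide +kernel

theorem okTransv_block2 : (List.range' (2 * 21) 21).all okTransv = true := by decide +kernel

theorem okTransv_true : ∀ d < 63, okTransv d = true :=
  of_blocks (m := 3) (c := 21) le_rfl fun j hj =>
    match j, hj with
    | 0, _ => okTransv_block0
    | 1, _ => okTransv_block1
    | 2, _ => okTransv_block2
    | j + 3, h => absurd h (by omega)

theorem okSep_true : okSep = true := by decide +kernel

theorem step0 : okStep (lev 0) (lev 1) reps0 steps0 = true := by decide +kernel

theorem step1 : okStep (lev 1) (lev 2) reps1 steps1 = true := by decide +kernel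

theorem step2 : okStep (lev 2) (lev 3) reps2 steps2 = true := by decide +kernel

theorem okTwo_true : okTwo = true := by decide +kernel

theorem cert2_eqs : cert2.eqsCheck = true := by decide +kernel

theorem cert2_lin : cert2.linCheck = true := by decide +kernel

theorem cert2_shaped : Schur.Pc.shaped 2 10 cert2.rules = true := by decide +kernel

theorem cert3_ok : sys.certOK cert3 xi3 gs3 mod3 base3 = true := by decide +kernel

theorem cyc5_ok : sys.cycOK 5 cyc5 = true := by decide +kernel

theorem cyc7_ok : sys.cycOK 7 cyc7 = true := by decide +kernel

theorem comm_ok : sys.same [commPair.1, commPair.2] (12 :: [commPair.2, commPair.1]) = true := by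
  decide +kernel

end

end CfsgLib.SpSixMult
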